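import Groth.Agent.H82.R2.Norm

/-!
# Morphisms of pinned root data with exponents
-/

set_option autoImplicit false
set_option linter.style.haveILetI false
set_option linter.unusedSectionVars false
universe u

open CategoryTheory MonoidalCategory CartesianMonoidalCategory MonObj GrpObj AlgebraicGeometry
open Groth.Agent.Lib.RedPts Groth.Agent.H82.BigCell Groth.Agent.H82.Contract Groth.Agent.H82.Weyl
open Groth.Agent.H82.RankOne (P P_eq P_add P_zero P_neg P_comp gmPt_eq Sys)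

namespace Groth.Agent.H82.R2.Iso

variable {S : Scheme.{u}} {G G' : Over S} [GrpObj G] [GrpObj G']

/-- A `p`-morphism between root data with bases, for splittings whose simple root groups are dual. -/
structure PMor (D : Red.SplitRed G) (D' : Red.SplitRed G') where
  bs : D.P.Base
  bs' : D'.P.Base
  hd : ∀ a ∈ bs.support, Weyl.Dual D a
  hd' : ∀ a ∈ bs'.support, Weyl.Dual D' a
  p : ℕ
  hp0 : 0 < p
  hp : ∀ (X : Over S) (a b : Γ(X.left, ⊤)), (a + b) ^ p = a ^ p + b ^ p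
  hM : D'.M →ₗ[ℤ] D.M
  d : D.idx ≃ D'.idx
  q : D.idx → ℕ
  hq : ∀ a, ∃ n : ℕ, q a = p ^ n
  hroot : ∀ a, hM (D'.P.root (d a)) = (q a : ℤ) • D.P.root a
  hcoroot : ∀ a, hM.dualMap (D.P.coroot a) = (q a : ℤ) • D'.P.coroot (d a)
  hΔ : ∀ a, a ∈ bs.support ↔ d a ∈ bs'.support

variable {D : Red.SplitRed G} {D' : Red.SplitRed G'} (Q : PMor D D')

theorem PMor.red (Q : PMor D D') : D.P.IsReduced := reduced_of_base Q.bs

theorem PMor.red' (Q : PMor D D') : D'.P.IsReduced := reduced_of_base Q.bs'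

theorem PMor.q_pos (Q : PMor D D') (a : D.idx) : 0 < Q.q a := by
  obtain ⟨n, hn⟩ := Q.hq a
  rw [hn]; exact pow_pos Q.hp0 n

theorem PMor.dual' (Q : PMor D D') {a : D.idx} (ha : a ∈ Q.bs.support) : Weyl.Dual D' (Q.d a) :=
  Q.hd' _ ((Q.hΔ a).1 ha)

/-! ### Powers -/

theorem pow_add_q (a : D.idx) {X : Over S} (x y : Γ(X.left, ⊤)) :
    (x + y) ^ Q.q a = x ^ Q.q a + y ^ Q.q a := by
  obtain ⟨n, hn⟩ := Q.hq a
  rw [hn]
  clear hn
  induction n with
  | zero => simp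
  | succ n ih => rw [pow_succ, pow_mul, pow_mul, pow_mul, ih, Q.hp]

theorem pow_zero_q (a : D.idx) {X : Over S} : (0 : Γ(X.left, ⊤)) ^ Q.q a = 0 := zero_pow (Q.q_pos a).ne'

theorem pow_neg_q (a : D.idx) {X : Over S} (x : Γ(X.left, ⊤)) : (-x) ^ Q.q a = -(x ^ Q.q a) := by
  refine eq_neg_of_add_eq_zero_left ?_
  rw [← pow_add_q, neg_add_cancel, pow_zero_q]

theorem pow_natCast_q (a : D.idx) {X : Over S} (k : ℕ) : ((k : Γ(X.left, ⊤))) ^ Q.q a = k := by
  induction k with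
  | zero => rw [Nat.cast_zero]; exact pow_zero_q Q a
  | succ k ih => rw [Nat.cast_succ, pow_add_q, ih, one_pow]

theorem pow_neg_q_base (a : D.idx) (x : Γ(S, ⊤)) : (-x) ^ Q.q a = -(x ^ Q.q a) :=
  pow_neg_q Q a (X := 𝟙_ (Over S)) x

/-! ### Roots -/

theorem coroot_root_eq (D : Red.SplitRed G) (c a : D.idx) : D.P.coroot a (D.P.root c) = D.P.pairing c a := by
  have := D.P.root_coroot_eq_pairing c a
  rw [D.pairing_eq] at this
  exact this

/-- The pairings correspond. -/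
theorem q_pairing (c a : D.idx) :
    (Q.q c : ℤ) * D.P.pairing c a = Q.q a * D'.P.pairing (Q.d c) (Q.d a) := by
  have h := congrArg (fun f => f (D'.P.root (Q.d c))) (Q.hcoroot a)
  simp only [LinearMap.dualMap_apply, Q.hroot, map_zsmul, LinearMap.smul_apply, coroot_root_eq, smul_eq_mul] at h
  exact h

/-- A root mapping to a positive multiple of a root corresponds to it. -/
theorem eq_of_hM {x : D'.idx} {e : D.idx} {k : ℤ} (hk : 0 < k) (h : Q.hM (D'.P.root x) = k • D.P.root e) :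
    x = Q.d e ∧ k = Q.q e := by
  haveI := Q.red
  haveI : IsAddTorsionFree D.M := .of_isTorsionFree ℤ D.M
  obtain ⟨e', rfl⟩ := Q.d.surjective x
  rw [Q.hroot] at h
  have hq : (0 : ℤ) < Q.q e' := by exact_mod_cast Q.q_pos e'
  have hdep : ¬LinearIndependent ℤ ![D.P.root e', D.P.root e] := fun hli => by
    have := (LinearIndependent.pair_iff.1 hli (Q.q e' : ℤ) (-k) (by rw [h, neg_smul, add_neg_cancel])).1
    omega
  rcases RootPairing.IsReduced.eq_or_eq_neg (P := D.P) e' e hdep with h' | h'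
  · obtain rfl := D.P.root.injective h'
    exact ⟨rfl, (smul_left_injective ℤ (D.P.ne_zero e') h).symm⟩
  · rw [h', smul_neg, ← neg_smul] at h
    have := smul_left_injective ℤ (D.P.ne_zero e) h
    omega

/-- The correspondence of roots commutes with the reflections. -/
theorem d_refl (a c : D.idx) :
    Q.d (D.P.reflectionPerm a c) = D'.P.reflectionPerm (Q.d a) (Q.d c) ∧
      Q.q (D.P.reflectionPerm a c) = Q.q c := by
  haveI : IsAddTorsionFree D.M := .of_isTorsionFree ℤ D.M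
  have h : Q.hM (D'.P.root (D'.P.reflectionPerm (Q.d a) (Q.d c))) =
      (Q.q c : ℤ) • D.P.root (D.P.reflectionPerm a c) := by
    rw [root_refl, root_refl, map_sub, map_zsmul, Q.hroot, Q.hroot, smul_sub, smul_smul, smul_smul,
      q_pairing, mul_comm]
  obtain ⟨h1, h2⟩ := eq_of_hM Q (by exact_mod_cast Q.q_pos c) h
  exact ⟨h1.symm, by exact_mod_cast h2.symm⟩

theorem d_neg (c : D.idx) : Q.d (D.P.reflectionPerm c c) = D'.P.reflectionPerm (Q.d c) (Q.d c) :=
  (d_refl Q c c).1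

theorem q_neg (c : D.idx) : Q.q (D.P.reflectionPerm c c) = Q.q c := (d_refl Q c c).2

theorem pairing_zero_iff (c a : D.idx) : D.P.pairing c a = 0 ↔ D'.P.pairing (Q.d c) (Q.d a) = 0 := by
  have h := q_pairing Q c a
  have hc : (Q.q c : ℤ) ≠ 0 := by exact_mod_cast (Q.q_pos c).ne'
  have ha : (Q.q a : ℤ) ≠ 0 := by exact_mod_cast (Q.q_pos a).ne'
  constructor
  · intro h0; rw [h0, mul_zero] at h; exact (mul_eq_zero.1 h.symm).resolve_left ha
  · intro h0; rw [h0, mul_zero] at h; exact (mul_eq_zero.1 h).resolve_left hc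

/-! ### The map of tori -/

/-- The homomorphism of tori. -/
noncomputable def τ (Q : PMor D D') : D.T ⟶ D'.T :=
  D.split.hom.hom.hom ≫ Red.DSmap S Q.hM.toAddMonoidHom ≫ D'.split.inv.hom.hom

theorem dsFn_τ {X : Over S} (t : X ⟶ D.T) (m : D'.M) :
    Gm.dsFn ((t ≫ τ Q) ≫ D'.split.hom.hom.hom) m = Gm.dsFn (t ≫ D.split.hom.hom.hom) (Q.hM m) := by
  simp only [τ, Category.assoc]
  rw [split_inv_hom, Category.comp_id, ← Category.assoc, Gm.dsFn_DSmap]
  rfl

theorem τ_mul {X : Over S} (s t : X ⟶ D.T) : (s * t) ≫ τ Q = (s ≫ τ Q) * (t ≫ τ Q) := by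
  refine ext_dsFn fun m => ?_
  haveI : IsMonHom (show D.T ⟶ Red.DS S D.M from D.split.hom.hom.hom) := D.split.hom.hom.isMonHom_hom
  haveI : IsMonHom (show D'.T ⟶ Red.DS S D'.M from D'.split.hom.hom.hom) := D'.split.hom.hom.isMonHom_hom
  rw [dsFn_τ, show ∀ p q : X ⟶ D.T, (p * q) ≫ D.split.hom.hom.hom = (p ≫ D.split.hom.hom.hom) * (q ≫ D.split.hom.hom.hom)
      from fun p q => MonObj.mul_comp p q (show D.T ⟶ Red.DS S D.M from D.split.hom.hom.hom),
    show ∀ p q : X ⟶ D'.T, (p * q) ≫ D'.split.hom.hom.hom = (p ≫ D'.split.hom.hom.hom) * (q ≫ D'.split.hom.hom.hom)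
      from fun p q => MonObj.mul_comp p q (show D'.T ⟶ Red.DS S D'.M from D'.split.hom.hom.hom),
    Gm.dsFn_mul, Gm.dsFn_mul, dsFn_τ, dsFn_τ]

instance isMonHom_τ : IsMonHom (τ Q) := H87.HomDS.isMonHom_of_points _ fun _ s t => τ_mul Q s t

theorem gmFn_τ_chr (e : D.idx) {X : Over S} (t : X ⟶ D.T) :
    Red.gmFn ((t ≫ τ Q) ≫ chr D' (D'.P.root (Q.d e))) = Red.gmFn (t ≫ chr D (D.P.root e)) ^ Q.q e := by
  rw [chr, chr, ← Category.assoc (t ≫ τ Q), ← Category.assoc t D.split.hom.hom.hom, Gm.gmFn_chi, Gm.gmFn_chi,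
    dsFn_τ, Q.hroot, natCast_zsmul, Gm.dsFn_nsmul]

theorem cochar_τ (a : D.idx) {X : Over S} (u : Γ(X.left, ⊤)ˣ) :
    (Gm.gmPt u ≫ cochar D (D.P.coroot a).toAddMonoidHom) ≫ τ Q =
      Gm.gmPt (u ^ Q.q a) ≫ cochar D' (D'.P.coroot (Q.d a)).toAddMonoidHom := by
  refine ext_dsFn fun m => ?_
  rw [dsFn_τ, dsFn_cochar, dsFn_cochar, show Gm.gmPt (u ^ Q.q a) = Gm.gmPt u ^ Q.q a from
    (gmPt_eq _ (by rw [Gm.gmFn_pow, Gm.gmFn_gmPt, Units.val_pow_eq_pow_val])).symm, Gm.dsFn_pow]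
  have h : D.P.coroot a (Q.hM m) = (Q.q a : ℤ) * D'.P.coroot (Q.d a) m := by
    have h' := congrArg (fun f => f m) (Q.hcoroot a)
    simpa only [LinearMap.dualMap_apply, LinearMap.smul_apply, smul_eq_mul] using h'
  rw [← Gm.dsFn_nsmul, LinearMap.toAddMonoidHom_coe, LinearMap.toAddMonoidHom_coe, h, nsmul_eq_mul]

theorem H_τ (a : D.idx) {X : Over S} (u : Γ(X.left, ⊤)ˣ) :
    (Gm.gmPt u ≫ cochar D (D.P.coroot a).toAddMonoidHom) ≫ τ Q ≫ D'.i =
      Sys.H D'.i (cochar D' (D'.P.coroot (Q.d a)).toAddMonoidHom) (u ^ Q.q a) := by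
  rw [← Category.assoc, cochar_τ]
  simp [Sys.H]

theorem act_τ (a : D.idx) {X : Over S} (t : X ⟶ D.T) :
    act D (D.P.reflection a).toLinearMap.toAddMonoidHom t ≫ τ Q =
      act D' (D'.P.reflection (Q.d a)).toLinearMap.toAddMonoidHom (t ≫ τ Q) := by
  refine ext_dsFn fun m => ?_
  rw [dsFn_τ, dsFn_act, dsFn_act, dsFn_τ]
  refine congrArg _ ?_
  simp only [LinearMap.toAddMonoidHom_coe, LinearEquiv.coe_coe, RootPairing.reflection_apply,
    RootPairing.coroot', D.pairing_eq, D'.pairing_eq, LinearMap.flip_apply, Module.Dual.eval_apply, map_sub,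
    map_zsmul, Q.hroot, smul_smul]
  have h := congrArg (fun f => f m) (Q.hcoroot a)
  simp only [LinearMap.dualMap_apply, LinearMap.smul_apply, smul_eq_mul] at h
  rw [h, mul_comm]

end Groth.Agent.H82.R2.Iso
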