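import Groth.Agent.H82.R2.Iso.Data
import Groth.Agent.H82.R2.TranslateCover

/-!
# Pairs of points over simple root elements and the torus
-/

set_option autoImplicit false
set_option maxHeartbeats 1000000
set_option linter.style.haveILetI false
set_option linter.unusedSectionVars false
universe u

open CategoryTheory MonoidalCategory CartesianMonoidalCategory MonObj GrpObj AlgebraicGeometry
open Groth.Agent.Lib.RedPts Groth.Agent.H82.BigCell Groth.Agent.H82.Contract Groth.Agent.H82.Weyl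
open Groth.Agent.H82.RankOne (P P_eq P_add P_zero P_neg P_comp gmPt_eq gmPt_comp Sys)

namespace Groth.Agent.H82.R2.Iso

variable {S : Scheme.{u}}

section NegBase

variable {idx M N : Type} [AddCommGroup M] [AddCommGroup N] [DecidableEq idx] {P : RootPairing idx ℤ M N}

/-- The opposite base, with its support. -/
noncomputable def negBase (b : P.Base) : P.Base where
  support := b.support.image fun a => P.reflectionPerm a a
  linearIndepOn_root := by
    rw [Finset.coe_image]
    refine LinearIndepOn.image_of_comp _ P.root ?_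
    rw [show P.root ∘ (fun a => P.reflectionPerm a a) = fun a => -P.root a from funext root_neg_idx]
    exact LinearIndependent.neg b.linearIndepOn_root
  linearIndepOn_coroot := by
    rw [Finset.coe_image]
    refine LinearIndepOn.image_of_comp _ P.coroot ?_
    rw [show P.coroot ∘ (fun a => P.reflectionPerm a a) = fun a => -P.coroot a from
      funext fun a => by simp [P.coroot_reflectionPerm, P.coreflection_apply_self]]
    exact LinearIndependent.neg b.linearIndepOn_coroot
  root_mem_or_neg_mem a := by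
    have h : P.root '' ↑(b.support.image fun a => P.reflectionPerm a a) = -(P.root '' (b.support : Set idx)) := by
      rw [Finset.coe_image, Set.image_image, ← Set.image_neg_eq_neg, Set.image_image]
      exact Set.image_congr fun a _ => root_neg_idx a
    rw [h, AddSubmonoid.closure_neg, AddSubmonoid.mem_neg, AddSubmonoid.mem_neg, neg_neg]
    exact (b.root_mem_or_neg_mem a).symm
  coroot_mem_or_neg_mem a := by
    have h : P.coroot '' ↑(b.support.image fun a => P.reflectionPerm a a) = -(P.coroot '' (b.support : Set idx)) := by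
      rw [Finset.coe_image, Set.image_image, ← Set.image_neg_eq_neg, Set.image_image]
      exact Set.image_congr fun a _ => by simp [P.coroot_reflectionPerm, P.coreflection_apply_self]
    rw [h, AddSubmonoid.closure_neg, AddSubmonoid.mem_neg, AddSubmonoid.mem_neg, neg_neg]
    exact (b.coroot_mem_or_neg_mem a).symm

omit [DecidableEq idx] in
theorem refl_self_self (a : idx) : P.reflectionPerm (P.reflectionPerm a a) (P.reflectionPerm a a) = a :=
  P.root.injective (by rw [root_neg_idx, root_neg_idx, neg_neg])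

theorem mem_negBase (b : P.Base) (a : idx) :
    a ∈ (negBase b).support ↔ P.reflectionPerm a a ∈ b.support := by
  simp only [negBase, Finset.mem_image]
  exact ⟨by rintro ⟨c, hc, rfl⟩; rwa [refl_self_self], fun h => ⟨_, h, refl_self_self a⟩⟩

end NegBase

section OneGroup

variable {G : Over S} [GrpObj G] {D : Red.SplitRed G}

theorem dual_of_dualC {a : D.idx} (h : DualC D a 1 1) : Weyl.Dual D a := fun X x y hu => by
  obtain ⟨u, hu'⟩ := hu
  have e := h X (Red.gaFn x) (Red.gaFn y) u hu'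
  simp only [res_one, _root_.one_mul] at e
  refine ⟨Ga.gaPt (Red.gaFn x * (↑u⁻¹ : Γ(X.left, ⊤))), Ga.gaPt (Red.gaFn y * (↑u⁻¹ : Γ(X.left, ⊤))), Gm.gmPt u,
    by rw [Gm.gmFn_gmPt, hu'], ?_, ?_, ?_⟩
  · rw [Ga.gaFn_gaPt, Gm.gmFn_gmPt, Units.inv_mul_cancel_right]
  · rw [Ga.gaFn_gaPt, Gm.gmFn_gmPt, Units.inv_mul_cancel_right]
  · rw [P_eq, P_eq, P_eq, P_eq, Ga.gaFn_gaPt, Ga.gaFn_gaPt]
    exact e

theorem dual_neg {a : D.idx} (hd : Weyl.Dual D a) : Weyl.Dual D (D.P.reflectionPerm a a) :=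
  dual_of_dualC (dualC_simple hd).symm

theorem root_ne_of_simple (bs : D.P.Base) {a b : D.idx} (ha : a ∈ bs.support) (hb : b ∈ bs.support) (hne : a ≠ b) :
    D.P.root a + D.P.root (D.P.reflectionPerm b b) ≠ 0 ∧
      D.P.root a + D.P.root (D.P.reflectionPerm b b) ∉ Set.range D.P.root := by
  rw [root_neg_idx, ← sub_eq_add_neg]
  haveI : IsAddTorsionFree D.M := .of_isTorsionFree ℤ D.M
  exact ⟨fun h => hne (D.P.root.injective (sub_eq_zero.1 h)), bs.sub_notMem_range_root ha hb⟩

/-- Simple root elements commute with the other simple negative ones. -/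
theorem commute_simple (bs : D.P.Base) {a b : D.idx} (ha : a ∈ bs.support) (hb : b ∈ bs.support) (hne : a ≠ b)
    {X : Over S} (x y : Γ(X.left, ⊤)) :
    P (D.u a) x * P (D.u (D.P.reflectionPerm b b)) y = P (D.u (D.P.reflectionPerm b b)) y * P (D.u a) x := by
  obtain ⟨h0, h1⟩ := root_ne_of_simple bs ha hb hne
  have h := Groth.Agent.S8458.result S G D a (D.P.reflectionPerm b b) h0 h1 X (Ga.gaPt x) (Ga.gaPt y)
  simp only [P_eq, Ga.gaFn_gaPt] at h
  exact h

end OneGroup

variable {G G' : Over S} [GrpObj G] [GrpObj G'] {D : Red.SplitRed G} {D' : Red.SplitRed G'} (Q : PMor D D')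

/-- The morphism for the opposite bases. -/
noncomputable def PMor.neg (Q : PMor D D') : PMor D D' :=
  letI := Classical.decEq D.idx
  letI := Classical.decEq D'.idx
  { Q with
    bs := negBase Q.bs
    bs' := negBase Q.bs'
    hd := fun a ha => by
      have h := dual_neg (Q.hd _ ((mem_negBase Q.bs a).1 ha))
      rwa [refl_self_self] at h
    hd' := fun a ha => by
      have h := dual_neg (Q.hd' _ ((mem_negBase Q.bs' a).1 ha))
      rwa [refl_self_self] at h
    hΔ := fun a => by rw [mem_negBase, mem_negBase, Q.hΔ, d_neg] }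

@[simp] theorem neg_d : Q.neg.d = Q.d := rfl
@[simp] theorem neg_q : Q.neg.q = Q.q := rfl

theorem mem_neg_support (a : D.idx) : a ∈ Q.neg.bs.support ↔ D.P.reflectionPerm a a ∈ Q.bs.support :=
  letI := Classical.decEq D.idx
  mem_negBase Q.bs a

theorem τ_neg : τ Q.neg = τ Q := rfl

/-- The pair of a root element and its image. -/
noncomputable def ge (e : D.idx) {X : Over S} (x : Γ(X.left, ⊤)) : (X ⟶ G) × (X ⟶ G') :=
  (P (D.u e) x, P (D'.u (Q.d e)) (x ^ Q.q e))

/-- The pair of a torus element and its image. -/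
noncomputable def tg {X : Over S} (t : X ⟶ D.T) : (X ⟶ G) × (X ⟶ G') :=
  (t ≫ D.i, (t ≫ τ Q) ≫ D'.i)

/-- Pulling a pair back. -/
noncomputable def pull {X X' : Over S} (c : X' ⟶ X) : (X ⟶ G) × (X ⟶ G') →* (X' ⟶ G) × (X' ⟶ G') where
  toFun g := (c ≫ g.1, c ≫ g.2)
  map_one' := Prod.ext (MonObj.comp_one c) (MonObj.comp_one c)
  map_mul' g h := Prod.ext (MonObj.comp_mul c g.1 h.1) (MonObj.comp_mul c g.2 h.2)

theorem pull_fst {X X' : Over S} (c : X' ⟶ X) (g : (X ⟶ G) × (X ⟶ G')) : (pull c g).1 = c ≫ g.1 := rfl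

theorem pull_snd {X X' : Over S} (c : X' ⟶ X) (g : (X ⟶ G) × (X ⟶ G')) : (pull c g).2 = c ≫ g.2 := rfl

theorem pull_pull {X X' X'' : Over S} (c : X' ⟶ X) (c' : X'' ⟶ X') (g : (X ⟶ G) × (X ⟶ G')) :
    pull c' (pull c g) = pull (c' ≫ c) g := Prod.ext (Category.assoc _ _ _).symm (Category.assoc _ _ _).symm

/-- The product of a list of root pairs. -/
noncomputable def wd {X : Over S} (L : List (D.idx × Γ(X.left, ⊤))) : (X ⟶ G) × (X ⟶ G') :=
  (L.map fun e => ge Q e.1 e.2).prod

theorem wd_nil (X : Over S) : wd Q ([] : List (D.idx × Γ(X.left, ⊤))) = 1 := rfl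

theorem wd_cons {X : Over S} (e : D.idx × Γ(X.left, ⊤)) (L : List (D.idx × Γ(X.left, ⊤))) :
    wd Q (e :: L) = ge Q e.1 e.2 * wd Q L := by simp [wd]

theorem wd_append {X : Over S} (L L' : List (D.idx × Γ(X.left, ⊤))) : wd Q (L ++ L') = wd Q L * wd Q L' := by
  simp [wd]

theorem pull_ge {X X' : Over S} (c : X' ⟶ X) (e : D.idx) (x : Γ(X.left, ⊤)) :
    pull c (ge Q e x) = ge Q e (c.left.appTop x) := by
  refine Prod.ext (P_comp _ _ _) ?_
  rw [pull_snd, ge, ge, P_comp, map_pow]

theorem pull_tg {X X' : Over S} (c : X' ⟶ X) (t : X ⟶ D.T) : pull c (tg Q t) = tg Q (c ≫ t) := by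
  refine Prod.ext ?_ ?_ <;> simp [pull, tg]

/-- Pulling a word back. -/
noncomputable def pullW {X X' : Over S} (c : X' ⟶ X) (L : List (D.idx × Γ(X.left, ⊤))) :
    List (D.idx × Γ(X'.left, ⊤)) :=
  L.map fun e => (e.1, c.left.appTop e.2)

theorem pull_wd {X X' : Over S} (c : X' ⟶ X) (L : List (D.idx × Γ(X.left, ⊤))) :
    pull c (wd Q L) = wd Q (pullW c L) := by
  induction L with
  | nil => exact map_one _
  | cons e L ih => rw [pullW, List.map_cons, wd_cons, wd_cons, map_mul, pull_ge, ih]; rfl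

theorem isMonHom_u (D : Red.SplitRed G) (a : D.idx) : IsMonHom (D.u a) := (D.rootHom a).1

theorem ge_add (e : D.idx) {X : Over S} (x y : Γ(X.left, ⊤)) : ge Q e (x + y) = ge Q e x * ge Q e y := by
  haveI := isMonHom_u D e
  haveI := isMonHom_u D' (Q.d e)
  refine Prod.ext (P_add _ _ _) ?_
  change P _ ((x + y) ^ Q.q e) = _
  rw [pow_add_q, P_add]; rfl

theorem ge_zero (e : D.idx) {X : Over S} : ge Q e (0 : Γ(X.left, ⊤)) = 1 := by
  have h := ge_add Q e (0 : Γ(X.left, ⊤)) 0
  rw [add_zero] at h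
  exact left_eq_mul.1 h

theorem ge_neg (e : D.idx) {X : Over S} (x : Γ(X.left, ⊤)) : ge Q e (-x) = (ge Q e x)⁻¹ := by
  rw [eq_inv_iff_mul_eq_one, ← ge_add, neg_add_cancel, ge_zero]

theorem tg_mul {X : Over S} (s t : X ⟶ D.T) : tg Q (s * t) = tg Q s * tg Q t := by
  refine Prod.ext (MonObj.mul_comp s t D.i) ?_
  change ((s * t) ≫ τ Q) ≫ D'.i = _
  rw [τ_mul, MonObj.mul_comp]; rfl

theorem tg_one (X : Over S) : tg Q (1 : X ⟶ D.T) = 1 := by
  have h := tg_mul Q (1 : X ⟶ D.T) 1
  rw [_root_.one_mul] at h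
  exact left_eq_mul.1 h

/-- Torus pairs scale root pairs. -/
theorem tg_ge (e : D.idx) {X : Over S} (t : X ⟶ D.T) (x : Γ(X.left, ⊤)) :
    tg Q t * ge Q e x = ge Q e (Red.gmFn (t ≫ chr D (D.P.root e)) * x) * tg Q t := by
  refine Prod.ext (isRootPts D e t x) ?_
  change ((t ≫ τ Q) ≫ D'.i) * P _ (x ^ Q.q e) = P _ ((_ * x) ^ Q.q e) * _
  rw [isRootPts D' (Q.d e) (t ≫ τ Q) (x ^ Q.q e), gmFn_τ_chr, mul_pow]
  rfl

/-- Scaling a word by a torus element. -/
theorem tg_wd {X : Over S} (t : X ⟶ D.T) (L : List (D.idx × Γ(X.left, ⊤))) :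
    ∃ L' : List (D.idx × Γ(X.left, ⊤)), L'.map Prod.fst = L.map Prod.fst ∧ tg Q t * wd Q L = wd Q L' * tg Q t := by
  induction L with
  | nil => exact ⟨[], rfl, by rw [wd_nil, _root_.mul_one, _root_.one_mul]⟩
  | cons e L ih =>
    obtain ⟨L', h1, h2⟩ := ih
    refine ⟨(e.1, Red.gmFn (t ≫ chr D (D.P.root e.1)) * e.2) :: L', by simp [h1], ?_⟩
    rw [wd_cons, wd_cons, ← _root_.mul_assoc, tg_ge, _root_.mul_assoc, h2, ← _root_.mul_assoc]

/-- Simple pairs commute with the other negative simple pairs. -/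
theorem ge_comm {a b : D.idx} (ha : a ∈ Q.bs.support) (hb : b ∈ Q.neg.bs.support)
    (hne : b ≠ D.P.reflectionPerm a a) {X : Over S} (x y : Γ(X.left, ⊤)) :
    ge Q a x * ge Q b y = ge Q b y * ge Q a x := by
  rw [mem_neg_support] at hb
  have hne' : a ≠ D.P.reflectionPerm b b := fun h => hne (by rw [h, refl_self_self])
  have e := refl_self_self (P := D.P) b
  have h1 := commute_simple Q.bs ha hb hne' x y
  have h2 := commute_simple Q.bs' ((Q.hΔ a).1 ha) ((Q.hΔ _).1 hb) (fun h => hne' (Q.d.injective h))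
    (x ^ Q.q a) (y ^ Q.q b)
  rw [e] at h1
  rw [← d_neg, e] at h2
  exact Prod.ext h1 h2

/-- The pair form of the rule of a dual pair. -/
theorem ge_rule {a : D.idx} (ha : a ∈ Q.bs.support) {X : Over S} (x y : Γ(X.left, ⊤)) (u : Γ(X.left, ⊤)ˣ)
    (hu : (u : Γ(X.left, ⊤)) = 1 + x * y) :
    ge Q a x * ge Q (D.P.reflectionPerm a a) y =
      ge Q (D.P.reflectionPerm a a) (y * (↑u⁻¹ : Γ(X.left, ⊤))) *
        tg Q (Gm.gmPt u ≫ cochar D (D.P.coroot a).toAddMonoidHom) *
        ge Q a (x * (↑u⁻¹ : Γ(X.left, ⊤))) := by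
  refine Prod.ext ?_ ?_
  · have h := (sys_of_dual (Q.hd a ha)).rule x y u hu
    simpa only [ge, tg, Category.assoc, Prod.fst_mul] using h
  · have hu' : ((u ^ Q.q a : Γ(X.left, ⊤)ˣ) : Γ(X.left, ⊤)) = 1 + x ^ Q.q a * y ^ Q.q a := by
      rw [Units.val_pow_eq_pow_val, hu, pow_add_q, one_pow, mul_pow]
    have h := (sys_of_dual (Q.dual' ha)).rule (x ^ Q.q a) (y ^ Q.q a) _ hu'
    simp only [ge, tg, Prod.snd_mul]
    rw [q_neg, d_neg, cochar_τ]
    simpa only [Category.assoc, ← inv_pow, Units.val_pow_eq_pow_val, ← mul_pow] using h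

end Groth.Agent.H82.R2.Iso
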