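import Groth.Agent.H82.R2.Iso.Push
import Groth.Agent.H82.R2.Pinned

/-!
# Words of simple pairs are graphs
-/

set_option autoImplicit false
set_option maxHeartbeats 1000000
set_option linter.style.haveILetI false
set_option linter.unusedSectionVars false
universe u

open CategoryTheory MonoidalCategory CartesianMonoidalCategory MonObj GrpObj AlgebraicGeometry
open Groth.Agent.Lib.RedPts Groth.Agent.H82.BigCell Groth.Agent.H82.Contract Groth.Agent.H82.Weyl
open Groth.Agent.H82.RankOne (P P_eq P_add P_zero P_neg P_comp gmPt_eq gmPt_comp Sys)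
open Groth.Agent.H82.Bruhat (Adapted unip root_mem_unip simple_pos)
open Groth.Agent.H82.Borel (exists_enum)
open Polynomial (C)

namespace Groth.Agent.H82.R2.Iso

variable {S : Scheme.{u}}

section OneGroup

variable {G : Over S} [GrpObj G] {D : Red.SplitRed G} {l : D.M →+ ℤ}

theorem conj_prodPts {X : Over S} (g : X ⟶ G) : ∀ {m : ℕ} (a : Fin m → (X ⟶ G)),
    g * prodPts m a * g⁻¹ = prodPts m fun k => g * a k * g⁻¹
  | 0, a => by rw [prodPts_zero, prodPts_zero, _root_.mul_one, mul_inv_cancel]
  | m + 1, a => by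
    rw [prodPts_succ, prodPts_succ, ← conj_prodPts g fun k => a k.succ]
    group

/-- The form `u t v` is unique. -/
theorem form_unique (hl : ∀ a, l (D.P.root a) ≠ 0) {X : Over S} {u u' v v' : X ⟶ G} {t t' : X ⟶ D.T}
    (hu : u ∈ unip (D := D) (-l) X) (hu' : u' ∈ unip (D := D) (-l) X)
    (hv : v ∈ unip (D := D) l X) (hv' : v' ∈ unip (D := D) l X)
    (h : u * (t ≫ D.i) * v = u' * (t' ≫ D.i) * v') : u = u' ∧ t = t' ∧ v = v' := by
  obtain ⟨n, e, he⟩ := exists_enum (D := D) {a | 0 < (-l) (D.P.root a)}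
  obtain ⟨m, e', he'⟩ := exists_enum (D := D) {a | 0 < l (D.P.root a)}
  obtain ⟨h1, h2, -⟩ := Bruhat.isOpenImmersion_cell hl he he'
  haveI := mono_cellMap he.1 he'.1 h1 h2
  obtain ⟨y, rfl⟩ := Bruhat.exists_prod_unip (fun a => by simpa using hl a) e he hu
  obtain ⟨y', rfl⟩ := Bruhat.exists_prod_unip (fun a => by simpa using hl a) e he hu'
  obtain ⟨x, rfl⟩ := Bruhat.exists_prod_unip hl e' he' hv
  obtain ⟨x', rfl⟩ := Bruhat.exists_prod_unip hl e' he' hv'
  have hcell : ∀ (y : Fin n → Γ(X.left, ⊤)) (t : X ⟶ D.T) (x : Fin m → Γ(X.left, ⊤)),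
      lift (tuple n fun k => Ga.gaPt (y k)) (lift t (tuple m fun k => Ga.gaPt (x k))) ≫ RedSub.cellMap D e e' =
        prodPts n (fun k => P (D.u (e k)) (y k)) * (t ≫ D.i) * prodPts m (fun k => P (D.u (e' k)) (x k)) := by
    intro y t x
    refine (comp_cellMap e' _).trans ?_
    rw [lift_fst, lift_snd_assoc, lift_fst, lift_snd_assoc, lift_snd, comp_prodMap, comp_prodMap, _root_.mul_assoc]
    simp only [← Category.assoc, tuple_proj]
    rfl
  rw [← hcell, ← hcell, cancel_mono] at h
  have h1' := congrArg (· ≫ fst _ _) h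
  have h2' := congrArg (· ≫ snd _ _ ≫ fst _ _) h
  have h3' := congrArg (· ≫ snd _ _ ≫ snd _ _) h
  simp only [lift_fst, lift_snd_assoc, lift_fst, lift_snd] at h1' h2' h3'
  have hy : y = y' := funext fun k => by
    have := congrArg (fun z => Red.gaFn (z ≫ proj n k)) h1'
    simpa only [tuple_proj, Ga.gaFn_gaPt] using this
  have hx : x = x' := funext fun k => by
    have := congrArg (fun z => Red.gaFn (z ≫ proj m k)) h3'
    simpa only [tuple_proj, Ga.gaFn_gaPt] using this
  exact ⟨by rw [hy], h2', by rw [hx]⟩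

theorem eq_one_of_inter (hl : ∀ a, l (D.P.root a) ≠ 0) {X : Over S} {g : X ⟶ G}
    (h : g ∈ unip (D := D) (-l) X) (h' : g ∈ unip (D := D) l X) : g = 1 :=
  (form_unique hl h (one_mem _) (one_mem _) h' (t := (1 : X ⟶ D.T)) (t' := (1 : X ⟶ D.T))
    (by simp [MonObj.one_comp])).1

/-- Membership in the positive unipotent part descends along schematically dominant morphisms. -/
theorem unip_of_std (hl : ∀ a, l (D.P.root a) ≠ 0) {T T' : Over S} (j : T' ⟶ T)
    [IsSchemeTheoreticallyDominant j.left] {g : T ⟶ G} (h : j ≫ g ∈ unip (D := D) l T') :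
    g ∈ unip (D := D) l T := by
  obtain ⟨m, d, hd⟩ := exists_enum (D := D) {a | 0 < l (D.P.root a)}
  have hpos : ∀ k, 0 < l (D.P.root (d k)) := fun k => Set.ext_iff.1 hd.2 _ |>.1 (Set.mem_range_self k)
  haveI hci := mono_prodMap_pos (D := D) (l := l) hd.1 hpos
  obtain ⟨x, hx⟩ := Bruhat.exists_prod_unip hl d hd h
  set p := RedSub.prodMap (Red.Ga S) m fun k => D.u (d k) with hp
  let v : T' ⟶ RedSub.pow (Red.Ga S) m := tuple m fun k => Ga.gaPt (x k)
  have hv : v ≫ p = j ≫ g := by
    rw [hp, comp_prodMap, hx]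
    simp only [v, ← Category.assoc, tuple_proj]
    rfl
  let inc := Limits.pullback.snd p.left g.left
  haveI : IsClosedImmersion inc := inferInstance
  let q : T'.left ⟶ Limits.pullback p.left g.left :=
    Limits.pullback.lift v.left j.left (congrArg Over.Hom.left hv)
  have hq : q ≫ inc = j.left := Limits.pullback.lift_snd _ _ _
  have hk : inc.ker = ⊥ :=
    le_bot_iff.mp ((q.le_ker_comp inc).trans (by rw [hq, Scheme.Hom.ker_eq_bot j.left]))
  haveI : IsIso inc := IsClosedImmersion.isIso_iff_ker_eq_bot.mpr hk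
  let z : T ⟶ RedSub.pow (Red.Ga S) m := Over.homMk (U := T) (inv inc ≫ Limits.pullback.fst p.left g.left) (by
    rw [← Over.w p, Category.assoc, Limits.pullback.condition_assoc, Over.w g]
    exact IsIso.inv_hom_id_assoc inc T.hom)
  have hz : z ≫ p = g := Over.OverMorphism.ext (by
    rw [Over.comp_left]
    change (inv inc ≫ Limits.pullback.fst p.left g.left) ≫ p.left = g.left
    rw [Category.assoc, Limits.pullback.condition]
    exact IsIso.inv_hom_id_assoc inc g.left)
  rw [← hz, hp, comp_prodMap]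
  refine Bruhat.prodPts_mem_subgroup fun k => ?_
  rw [← Category.assoc, P_eq]
  exact root_mem_unip (hpos k) _

/-- Membership in the positive unipotent part pulls back. -/
theorem unip_comp {X X' : Over S} (c : X' ⟶ X) (hl : ∀ a, l (D.P.root a) ≠ 0) {g : X ⟶ G}
    (h : g ∈ unip (D := D) l X) : c ≫ g ∈ unip (D := D) l X' := by
  obtain ⟨m, d, hd⟩ := exists_enum (D := D) {a | 0 < l (D.P.root a)}
  obtain ⟨x, rfl⟩ := Bruhat.exists_prod_unip hl d hd h
  rw [comp_prodPts]
  refine Bruhat.prodPts_mem_subgroup fun k => ?_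
  rw [P_comp]
  exact root_mem_unip (Set.ext_iff.1 hd.2 _ |>.1 (Set.mem_range_self k)) _

variable [D.P.IsCrystallographic] {bs : D.P.Base}

/-- A word of simple reflections making all positive roots negative. -/
theorem exists_long (hA : Adapted bs l) : ∃ L : List D.idx, (∀ s ∈ L, s ∈ bs.support) ∧
    ∀ c, 0 < l (D.P.root c) → l (D.P.root (RedSub.wordPerm D.P L c)) < 0 := by
  classical
  haveI := reduced_of_base bs
  let N : List D.idx → ℕ := fun L =>
    (Finset.univ.filter fun c => 0 < l (D.P.root c) ∧ 0 < l (D.P.root (RedSub.wordPerm D.P L c))).card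
  suffices ∀ (k : ℕ) (L : List D.idx), N L = k → (∀ s ∈ L, s ∈ bs.support) →
      ∃ L : List D.idx, (∀ s ∈ L, s ∈ bs.support) ∧
        ∀ c, 0 < l (D.P.root c) → l (D.P.root (RedSub.wordPerm D.P L c)) < 0 from this _ [] rfl (by simp)
  intro k
  induction k using Nat.strong_induction_on with
  | _ k ih =>
    intro L hk hL
    by_cases h : ∀ c, 0 < l (D.P.root c) → l (D.P.root (RedSub.wordPerm D.P L c)) < 0
    · exact ⟨L, hL, h⟩
    obtain ⟨s, hs, hs'⟩ : ∃ s ∈ bs.support, 0 < l (D.P.root (RedSub.wordPerm D.P L s)) := by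
      by_contra hno
      simp only [not_exists, not_and] at hno
      refine h fun c hc => lt_of_le_of_ne ?_ (hA.ne _)
      have hmem : D.P.root c ∈ AddSubmonoid.closure (D.P.root '' bs.support) := (hA.pos c).2 hc
      rw [← Bruhat.wmap_root]
      generalize D.P.root c = x at hmem
      induction hmem using AddSubmonoid.closure_induction with
      | mem x hx =>
        obtain ⟨a, ha, rfl⟩ := hx
        rw [Bruhat.wmap_root]
        exact not_lt.1 (hno a ha)
      | zero => simp
      | add x y _ _ ihx ihy => rw [map_add, map_add]; omega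
    let L' := L ++ [s]
    have hperm : ∀ c, RedSub.wordPerm D.P L' c = RedSub.wordPerm D.P L (D.P.reflectionPerm s c) := fun c => by
      refine D.P.root.injective ?_
      rw [← Bruhat.wmap_root, ← Bruhat.wmap_root, Bruhat.wmap_append]
      simp only [AddMonoidHom.comp_apply]
      rw [Bruhat.wmap_root (L := [s]), Bruhat.wordPerm_singleton]
    have hneg : l (D.P.root (RedSub.wordPerm D.P L' s)) < 0 := by
      rw [hperm, root_perm_neg, root_neg_idx, map_neg]; omega
    have hlt : N L' < k := by
      rw [← hk]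
      refine lt_of_le_of_lt (Finset.card_le_card_of_injOn (fun c => D.P.reflectionPerm s c) ?_
        (fun a _ b _ hab => (D.P.reflectionPerm s).injective hab)) (Finset.card_erase_lt_of_mem (a := s) ?_)
      · intro c hc
        simp only [Finset.coe_filter, Finset.mem_univ, true_and, Set.mem_setOf_eq, Finset.coe_erase,
          Set.mem_diff, Set.mem_singleton_iff] at hc ⊢
        have hcs : c ≠ s := fun e => by rw [e] at hc; omega
        refine ⟨⟨Bruhat.refl_pos hA hs hc.1 hcs, hperm c ▸ hc.2⟩, fun e => ?_⟩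
        have e' := congrArg (D.P.reflectionPerm s) e
        rw [refl_refl] at e'
        have h1 := hc.1
        rw [e', root_neg_idx, map_neg] at h1
        have := simple_pos hA hs
        omega
      · simp only [Finset.mem_filter, Finset.mem_univ, true_and]
        exact ⟨simple_pos hA hs, hs'⟩
    refine ih _ hlt L' rfl fun c hc => ?_
    rcases List.mem_append.1 hc with h' | h'
    · exact hL c h'
    · exact List.mem_singleton.1 h' ▸ hs

end OneGroup

variable {G G' : Over S} [GrpObj G] [GrpObj G'] {D : Red.SplitRed G} {D' : Red.SplitRed G'} (Q : PMor D D')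

theorem wd_neg_eq {X : Over S} (L : List (D.idx × Γ(X.left, ⊤))) : wd Q.neg L = wd Q L := rfl

theorem mem_neg_neg (a : D.idx) : a ∈ Q.neg.neg.bs.support ↔ a ∈ Q.bs.support := by
  rw [mem_neg_support, mem_neg_support, refl_self_self]

theorem wd_fst_unip {l : D.M →+ ℤ} (hA : Adapted Q.bs l) {X : Over S} {W : List (D.idx × Γ(X.left, ⊤))}
    (hW : ∀ e ∈ W, e.1 ∈ Q.bs.support) : (wd Q W).1 ∈ unip (D := D) l X := by
  induction W with
  | nil => exact one_mem _
  | cons e W ih =>
    rw [wd_cons]
    exact mul_mem (root_mem_unip (simple_pos hA (hW e List.mem_cons_self)) _)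
      (ih fun x hx => hW x (List.mem_cons_of_mem _ hx))

theorem wd_fst_unip_neg {l : D.M →+ ℤ} (hA : Adapted Q.bs l) {X : Over S} {W : List (D.idx × Γ(X.left, ⊤))}
    (hW : ∀ e ∈ W, e.1 ∈ Q.neg.bs.support) : (wd Q W).1 ∈ unip (D := D) (-l) X := by
  induction W with
  | nil => exact one_mem _
  | cons e W ih =>
    rw [wd_cons]
    refine mul_mem (root_mem_unip ?_ _) (ih fun x hx => hW x (List.mem_cons_of_mem _ hx))
    have := simple_pos hA ((mem_neg_support Q e.1).1 (hW e List.mem_cons_self))
    rw [root_neg_idx, map_neg] at this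
    simpa using this

theorem wd_snd_unip {l : D'.M →+ ℤ} (hA : Adapted Q.bs' l) {X : Over S} {W : List (D.idx × Γ(X.left, ⊤))}
    (hW : ∀ e ∈ W, e.1 ∈ Q.bs.support) : (wd Q W).2 ∈ unip (D := D') l X := by
  induction W with
  | nil => exact one_mem _
  | cons e W ih =>
    rw [wd_cons]
    exact mul_mem (root_mem_unip (simple_pos hA ((Q.hΔ _).1 (hW e List.mem_cons_self))) _)
      (ih fun x hx => hW x (List.mem_cons_of_mem _ hx))

/-- Conjugates of the second component of a trivial word by simple pairs stay positive. -/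
theorem conj_ker_mem {l' : D'.M →+ ℤ} (hA' : Adapted Q.bs' l') :
    ∀ (n : ℕ) (X : Over S) [IsAffine X.left] (L W : List (D.idx × Γ(X.left, ⊤))), L.length = n →
      (∀ e ∈ L, Letter Q e.1) → (∀ e ∈ W, e.1 ∈ Q.bs.support) → (wd Q W).1 = 1 →
        (wd Q L).2 * (wd Q W).2 * ((wd Q L).2)⁻¹ ∈ unip (D := D') l' X := by
  obtain ⟨l, hA⟩ := Bruhat.exists_adapted Q.bs
  intro n
  induction n with
  | zero =>
    intro X _ L W hlen _ hW _
    obtain rfl := List.length_eq_zero_iff.1 hlen
    simpa [wd_nil] using wd_snd_unip Q hA' hW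
  | succ n ih =>
    intro X _ L W hlen hL hW h1
    obtain ⟨L₀, ⟨a, z⟩, rfl⟩ : ∃ L₀ x, L = L₀ ++ [x] := by
      rcases List.eq_nil_or_concat' L with rfl | h
      · simp at hlen
      · exact h
    have hL₀ : ∀ e ∈ L₀, Letter Q e.1 := fun e he => hL e (List.mem_append_left _ he)
    have hlen₀ : L₀.length = n := by simpa using hlen
    have hgroup : (wd Q (L₀ ++ [(a, z)])).2 * (wd Q W).2 * ((wd Q (L₀ ++ [(a, z)])).2)⁻¹ =
        (wd Q L₀).2 * ((ge Q a z).2 * (wd Q W).2 * ((ge Q a z).2)⁻¹) * ((wd Q L₀).2)⁻¹ := by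
      rw [wd_append, show wd Q [(a, z)] = ge Q a z by simp [wd]]
      simp only [Prod.snd_mul]; group
    rcases hL (a, z) (by simp) with ha | ha
    · -- a simple pair is absorbed
      rw [hgroup]
      have e : wd Q ((a, z) :: W ++ [(a, -z)]) = ge Q a z * wd Q W * (ge Q a z)⁻¹ := by
        rw [List.cons_append, wd_cons, wd_append, show wd Q [(a, -z)] = ge Q a (-z) by simp [wd], ge_neg,
          _root_.mul_assoc]
      have h := ih X L₀ ((a, z) :: W ++ [(a, -z)]) hlen₀ hL₀ (by
        intro x hx
        rw [List.cons_append] at hx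
        rcases List.mem_cons.1 hx with rfl | hx
        · exact ha
        · rcases List.mem_append.1 hx with hx | hx
          · exact hW x hx
          · rw [List.mem_singleton.1 hx]; exact ha) (by
        rw [e, Prod.fst_mul, Prod.fst_mul, h1, _root_.mul_one, Prod.fst_inv, mul_inv_cancel])
      rwa [e] at h
    · -- an opposite one is moved across on the line
      let T := ext X (C : Γ(X.left, ⊤) →+* Polynomial Γ(X.left, ⊤))
      let zT : Γ(T.left, ⊤) := fn X C (Polynomial.X * C z)
      let WT := pullW (extHom X C) W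
      obtain ⟨e₀, h0, hpush⟩ := push Q.neg ha WT.length T zT WT rfl (by
        intro x hx
        obtain ⟨x', hx', rfl⟩ := List.mem_map.1 hx
        exact (mem_neg_neg Q _).2 (hW x' hx'))
      let gT : T ⟶ G' := (wd Q (pullW (extHom X C) L₀)).2 *
        ((ge Q a zT).2 * (wd Q WT).2 * ((ge Q a zT).2)⁻¹) * ((wd Q (pullW (extHom X C) L₀)).2)⁻¹
      suffices hT : gT ∈ unip (D := D') l' T by
        have h2 := unip_comp (atVal X 1) hA'.ne hT
        rw [hgroup]
        have hz : (atVal X 1).left.appTop zT = z := by simp only [zT, atVal_fn]; simp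
        have hback : ∀ M : List (D.idx × Γ(X.left, ⊤)),
            atVal X 1 ≫ (wd Q (pullW (extHom X C) M)).2 = (wd Q M).2 := fun M => by
          rw [← pull_snd (G := G), ← pull_wd, pull_pull, atVal_extHom, pull_snd, Category.id_comp]
        have hga : atVal X 1 ≫ (ge Q a zT).2 = (ge Q a z).2 := by
          rw [← pull_snd (G := G), pull_ge, hz]
        simpa only [gT, WT, MonObj.comp_mul, GrpObj.comp_inv, hback, hga] using h2
      -- on the open where the move is possible
      let p := (fn X (C : Γ(X.left, ⊤) →+* Polynomial Γ(X.left, ⊤))).symm e₀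
      let α : Polynomial Γ(X.left, ⊤) →+* Localization.Away p := algebraMap _ _
      let j : ext X (α.comp C) ⟶ T := extMap C _ (𝟙 X) α (by ext x; simp)
      have hu : IsUnit (j.left.appTop e₀) := by
        rw [← (fn X C).apply_symm_apply e₀, extMap_fn]
        exact (IsLocalization.map_units (Localization.Away p) (⟨p, Submonoid.mem_powers p⟩ : Submonoid.powers p)).map _
      have hp0 : p.eval 0 = 1 := by
        have := h0 Γ(X.left, ⊤) ((Polynomial.evalRingHom 0).comp (fn X C).symm.toRingHom) (by simp [zT])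
        simpa [p] using this
      have hnzd : p ∈ nonZeroDivisors (Polynomial Γ(X.left, ⊤)) := by
        by_contra hp
        obtain ⟨c, hc, hcp⟩ := Polynomial.notMem_nonZeroDivisors_iff.1 hp
        have := congrArg (Polynomial.eval 0) hcp
        rw [Polynomial.eval_smul, Polynomial.eval_zero, hp0, smul_eq_mul, _root_.mul_one] at this
        exact hc this
      haveI : IsSchemeTheoreticallyDominant j.left :=
        Groth.Agent.Lib.SchDense.Basic.std_specMap_of_injective (CommRingCat.ofHom α)
          (IsLocalization.injective (Localization.Away p) (Submonoid.powers_le.2 hnzd))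
      refine unip_of_std hA'.ne j ?_
      obtain ⟨W', t, z', hW', he⟩ := hpush _ j hu
      simp only [wd_neg_eq, mem_neg_neg] at he hW'
      change ge Q a _ * _ = wd Q W' * tg Q t * ge Q a z' at he
      have hWT : (wd Q (pullW j WT)).1 = 1 := by
        rw [← pull_wd, pull_fst, show (wd Q WT).1 = 1 by
          rw [← pull_wd, pull_fst, h1, MonObj.comp_one], MonObj.comp_one]
      have hfst := congrArg Prod.fst he
      simp only [Prod.fst_mul, hWT, _root_.mul_one] at hfst
      have hneg : ∀ y : Γ((ext X (α.comp C)).left, ⊤), P (D.u a) y ∈ unip (D := D) (-l) _ := fun y => by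
        refine root_mem_unip ?_ y
        have := simple_pos hA ((mem_neg_support Q a).1 ha)
        rw [root_neg_idx, map_neg] at this
        simpa using this
      have hv : (wd Q W').1 ∈ unip (D := D) (- -l) _ := by rw [neg_neg]; exact wd_fst_unip Q hA hW'
      obtain ⟨e1, e2, e3⟩ := form_unique (l := -l) (fun b => by simpa using hA.ne b) (one_mem _) hv
        (hneg (j.left.appTop zT)) (hneg z') (t := (1 : _ ⟶ D.T)) (t' := t)
        (by simpa [ge, tg, MonObj.one_comp] using hfst)
      rw [← P_inj e3, ← e2, tg_one, _root_.mul_one] at he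
      have hL' := ih (ext X (α.comp C)) (pullW j (pullW (extHom X C) L₀)) W' (by simpa [pullW] using hlen₀)
        (by
          intro x hx
          simp only [pullW, List.map_map] at hx
          obtain ⟨x', hx', rfl⟩ := List.mem_map.1 hx
          exact hL₀ x' hx') hW' e1.symm
      rw [eq_mul_inv_of_mul_eq he.symm] at hL'
      simp only [gT, MonObj.comp_mul, GrpObj.comp_inv]
      rw [← pull_snd (G := G), ← pull_snd (G := G) (g := ge Q a zT), pull_wd, pull_ge,
        ← pull_snd (G := G) (g := wd Q WT), pull_wd]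
      simpa only [Prod.snd_mul, Prod.snd_inv] using hL'

/-- The word of the letters of a representative. -/
noncomputable def wrep (X : Over S) : List D.idx → List (D.idx × Γ(X.left, ⊤))
  | [] => []
  | a :: L => (a, 1) :: (D.P.reflectionPerm a a, -1) :: (a, 1) :: wrep X L

theorem wrep_letter (X : Over S) : ∀ L : List D.idx, (∀ a ∈ L, a ∈ Q.bs.support) →
    ∀ e ∈ wrep (D := D) X L, Letter Q e.1
  | [], _, e, he => by simp [wrep] at he
  | a :: L, hL, e, he => by
    have ha := hL a List.mem_cons_self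
    have ha' : D.P.reflectionPerm a a ∈ Q.neg.bs.support := by rw [mem_neg_support, refl_self_self]; exact ha
    simp only [wrep, List.mem_cons] at he
    rcases he with rfl | rfl | rfl | he
    · exact Or.inl ha
    · exact Or.inr ha'
    · exact Or.inl ha
    · exact wrep_letter X L (fun x hx => hL x (List.mem_cons_of_mem _ hx)) e he

theorem wrep_conj (X : Over S) : ∀ L : List D.idx, (∀ a ∈ L, a ∈ Q.bs.support) →
    ∀ (c : D'.idx) (x : Γ(X.left, ⊤)), ∃ x' : Γ(X.left, ⊤),
      (wd Q (wrep X L)).2 * P (D'.u c) x =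
        P (D'.u (RedSub.wordPerm D'.P (L.map Q.d) c)) x' * (wd Q (wrep X L)).2
  | [], _, c, x => ⟨x, by simp [wrep, wd_nil, RedSub.wordPerm]⟩
  | a :: L, hL, c, x => by
    haveI := Q.red'; haveI := crys D'
    have ha := hL a List.mem_cons_self
    obtain ⟨x₁, h₁⟩ := wrep_conj X L (fun y hy => hL y (List.mem_cons_of_mem _ hy)) c x
    set c₁ := RedSub.wordPerm D'.P (L.map Q.d) c
    obtain ⟨ν, hν⟩ := exists_cj Q.hd' ((Q.hΔ a).1 ha) c₁
    have hw : (ge Q a (1 : Γ(X.left, ⊤))).2 * ((ge Q (D.P.reflectionPerm a a) (-1 : Γ(X.left, ⊤))).2 *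
        (ge Q a (1 : Γ(X.left, ⊤))).2) = toUnit X ≫ w D' (Q.d a) := by
      simp only [ge, toUnit_w, el, d_neg, q_neg, one_pow, pow_neg_q, res_neg, res_one, _root_.mul_assoc]
    refine ⟨res X ν * x₁, ?_⟩
    simp only [wrep, wd_cons, Prod.snd_mul, List.map_cons, Bruhat.wordPerm_cons]
    rw [← _root_.mul_assoc (ge Q (D.P.reflectionPerm a a) (-1 : Γ(X.left, ⊤))).2,
      ← _root_.mul_assoc (ge Q a (1 : Γ(X.left, ⊤))).2, hw, _root_.mul_assoc, h₁, ← _root_.mul_assoc, hν X x₁,
      _root_.mul_assoc]

/-- A word of simple pairs with trivial first component is trivial. -/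
theorem ker_trivial {X : Over S} {W : List (D.idx × Γ(X.left, ⊤))} (hW : ∀ e ∈ W, e.1 ∈ Q.bs.support)
    (h1 : (wd Q W).1 = 1) : (wd Q W).2 = 1 := by
  suffices H : ∀ (X : Over S) [IsAffine X.left] (W : List (D.idx × Γ(X.left, ⊤))),
      (∀ e ∈ W, e.1 ∈ Q.bs.support) → (wd Q W).1 = 1 → (wd Q W).2 = 1 by
    refine pt_ext_affine fun q => ?_
    haveI : IsAffine (piece X q).left := inferInstanceAs (IsAffine (X.left.affineCover.X q))
    rw [MonObj.comp_one, ← pull_snd (G := G), pull_wd]
    refine H _ _ (fun e he => ?_) ?_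
    · obtain ⟨e', he', rfl⟩ := List.mem_map.1 he
      exact hW e' he'
    · rw [← pull_wd, pull_fst, h1, MonObj.comp_one]
  intro X _ W hW h1
  haveI := Q.red'; haveI := crys D'
  obtain ⟨l', hA'⟩ := Bruhat.exists_adapted Q.bs'
  obtain ⟨L', hL', hlong⟩ := exists_long hA'
  let L : List D.idx := L'.map Q.d.symm
  have hLd : L.map Q.d = L' := by simp [L, List.map_map, Function.comp_def]
  have hL : ∀ a ∈ L, a ∈ Q.bs.support := fun a ha => by
    obtain ⟨s, hs, rfl⟩ := List.mem_map.1 ha
    rw [Q.hΔ, Equiv.apply_symm_apply]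
    exact hL' s hs
  have hin := conj_ker_mem Q hA' _ X (wrep X L) W rfl (wrep_letter Q X L hL) hW h1
  obtain ⟨m, d, hd⟩ := exists_enum (D := D') {a | 0 < l' (D'.P.root a)}
  obtain ⟨x, hx⟩ := Bruhat.exists_prod_unip hA'.ne d hd (wd_snd_unip Q hA' hW)
  have hout : (wd Q (wrep X L)).2 * (wd Q W).2 * ((wd Q (wrep X L)).2)⁻¹ ∈ unip (D := D') (-l') X := by
    rw [hx, conj_prodPts]
    refine Bruhat.prodPts_mem_subgroup fun k => ?_
    obtain ⟨x', hx'⟩ := wrep_conj Q X L hL (d k) (x k)
    rw [hx', mul_inv_cancel_right, hLd]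
    refine root_mem_unip ?_ x'
    have := hlong (d k) (Set.ext_iff.1 hd.2 _ |>.1 (Set.mem_range_self k))
    simpa using this
  have h := eq_one_of_inter hA'.ne hout hin
  simpa using h

/-- Words of simple pairs with the same first component have the same second. -/
theorem wd_functional {X : Over S} {W W' : List (D.idx × Γ(X.left, ⊤))} (hW : ∀ e ∈ W, e.1 ∈ Q.bs.support)
    (hW' : ∀ e ∈ W', e.1 ∈ Q.bs.support) (h : (wd Q W).1 = (wd Q W').1) : (wd Q W).2 = (wd Q W').2 := by
  let R : List (D.idx × Γ(X.left, ⊤)) := (W'.map fun e => (e.1, -e.2)).reverse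
  have hR : wd Q R = (wd Q W')⁻¹ := by
    simp only [R]
    clear hW' h
    induction W' with
    | nil => simp [wd_nil]
    | cons e W' ih =>
      rw [List.map_cons, List.reverse_cons, wd_append, ih]
      simp [wd_cons, wd_nil, ge_neg]
  have h2 := ker_trivial Q (W := W ++ R) (fun e he => by
    rcases List.mem_append.1 he with he | he
    · exact hW e he
    · obtain ⟨e', he', rfl⟩ := List.mem_map.1 (List.mem_reverse.1 he)
      exact hW' e' he') (by rw [wd_append, hR, Prod.fst_mul, Prod.fst_inv, h, mul_inv_cancel])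
  rw [wd_append, hR, Prod.snd_mul, Prod.snd_inv] at h2
  exact mul_inv_eq_one.1 h2

end Groth.Agent.H82.R2.Iso
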