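import Groth.Agent.H82.R2.Iso.Graph
import Groth.Agent.Lib.SchDense.Basic
import Mathlib.RingTheory.Polynomial.Basic

/-!
# Moving simple root pairs past opposite ones
-/

set_option autoImplicit false
set_option maxHeartbeats 1000000
set_option linter.style.haveILetI false
set_option linter.unusedSectionVars false
universe u

open CategoryTheory MonoidalCategory CartesianMonoidalCategory MonObj GrpObj AlgebraicGeometry
open Groth.Agent.Lib.RedPts Groth.Agent.H82.BigCell Groth.Agent.H82.Contract Groth.Agent.H82.Weyl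
open Groth.Agent.H82.RankOne (P P_eq P_add P_zero P_neg P_comp gmPt_eq gmPt_comp Sys)
open Polynomial (C)

namespace Groth.Agent.H82.R2.Iso

variable {S : Scheme.{u}}

/-- Shrinking a basic open by a function on it. -/
theorem away_step {X : Over S} [IsAffine X.left] (u : Γ(X.left, ⊤))
    (e₁ : Γ((ext X (algebraMap Γ(X.left, ⊤) (Localization.Away u))).left, ⊤)) :
    ∃ e₀ : Γ(X.left, ⊤),
      (∀ (B : Type u) [CommRing B] (ρ : Γ(X.left, ⊤) →+* B), ρ u = 1 →
        (∀ ρ₁ : Localization.Away u →+* B, ρ₁.comp (algebraMap _ _) = ρ →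
          ρ₁ ((fn X (algebraMap Γ(X.left, ⊤) (Localization.Away u))).symm e₁) = 1) → ρ e₀ = 1) ∧
      ∀ (Y : Over S) (f : Y ⟶ X), IsUnit (f.left.appTop e₀) →
        ∃ d : Y ⟶ ext X (algebraMap Γ(X.left, ⊤) (Localization.Away u)),
          d ≫ extHom X _ = f ∧ IsUnit (d.left.appTop e₁) := by
  let a : Γ(X.left, ⊤) →+* Localization.Away u := algebraMap _ _
  let r := (fn X a).symm e₁
  obtain ⟨⟨a₀, s⟩, hs⟩ := IsLocalization.surj (Submonoid.powers u) r
  refine ⟨u * a₀, fun B _ ρ hu hρ => ?_, fun Y f hf => ?_⟩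
  · have hu1 : IsUnit (ρ u) := by rw [hu]; exact isUnit_one
    let ρ₁ : Localization.Away u →+* B := IsLocalization.Away.lift u (g := ρ) hu1
    have hc : ρ₁.comp a = ρ := RingHom.ext fun x => IsLocalization.Away.lift_eq u hu1 x
    have h1 := congrArg ρ₁ hs
    rw [map_mul, hρ ρ₁ hc, _root_.one_mul] at h1
    obtain ⟨N, hN⟩ := s.2
    rw [← RingHom.comp_apply ρ₁ a, ← RingHom.comp_apply ρ₁ a, hc, ← hN, map_pow, hu, one_pow] at h1
    rw [map_mul, hu, ← h1, _root_.one_mul]
  · rw [map_mul] at hf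
    obtain ⟨hu, ha⟩ := IsUnit.mul_iff.1 hf
    let χ : Localization.Away u →+* Γ(Y.left, ⊤) := IsLocalization.Away.lift u (g := f.left.appTop.hom) hu
    have hc : χ.comp a = f.left.appTop.hom := RingHom.ext fun x => IsLocalization.Away.lift_eq u hu x
    obtain ⟨d, hd, hd'⟩ := exists_toExt a f χ hc
    refine ⟨d, hd, ?_⟩
    rw [← (fn X a).apply_symm_apply e₁, hd']
    have h1 := congrArg χ hs
    rw [map_mul, ← RingHom.comp_apply χ a, ← RingHom.comp_apply χ a, hc] at h1
    exact isUnit_of_mul_isUnit_left (h1 ▸ ha)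

/-- Morphisms to a separated object agreeing near one value of the variable are equal. -/
theorem eq_on_line {A : Over S} [IsSeparated A.hom] (X : Over S) [IsAffine X.left]
    {g₁ g₂ : ext X (C : Γ(X.left, ⊤) →+* Polynomial Γ(X.left, ⊤)) ⟶ A}
    (e : Γ((ext X (C : Γ(X.left, ⊤) →+* Polynomial Γ(X.left, ⊤))).left, ⊤))
    (r : Γ(X.left, ⊤)) (he : IsUnit (((fn X C).symm e).eval r))
    (h : ∀ (Y : Over S) (f : Y ⟶ ext X (C : Γ(X.left, ⊤) →+* Polynomial Γ(X.left, ⊤))),
      IsUnit (f.left.appTop e) → f ≫ g₁ = f ≫ g₂) : g₁ = g₂ := by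
  let p := (fn X (C : Γ(X.left, ⊤) →+* Polynomial Γ(X.left, ⊤))).symm e
  let a : Polynomial Γ(X.left, ⊤) →+* Localization.Away p := algebraMap _ _
  have hnzd : p ∈ nonZeroDivisors (Polynomial Γ(X.left, ⊤)) := by
    by_contra hp
    obtain ⟨c, hc, hcp⟩ := Polynomial.notMem_nonZeroDivisors_iff.1 hp
    have := congrArg (Polynomial.eval r) hcp
    rw [Polynomial.eval_smul, Polynomial.eval_zero, smul_eq_mul] at this
    exact hc (he.mul_left_eq_zero.1 this)
  have hinj : Function.Injective a := IsLocalization.injective (Localization.Away p) (Submonoid.powers_le.2 hnzd)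
  let j : ext X (a.comp C) ⟶ ext X C := extMap C _ (𝟙 X) a (by ext x; simp)
  have hu : IsUnit (j.left.appTop e) := by
    rw [← (fn X C).apply_symm_apply e, extMap_fn]
    exact (IsLocalization.map_units (Localization.Away p) (⟨p, Submonoid.mem_powers p⟩ : Submonoid.powers p)).map _
  haveI := Groth.Agent.Lib.SchDense.Basic.std_specMap_of_injective (CommRingCat.ofHom a) hinj
  refine Over.OverMorphism.ext ?_
  refine Groth.Agent.Lib.SchDense.Basic.ext_of_std A.hom (by rw [Over.w, Over.w]) (Spec.map (CommRingCat.ofHom a)) ?_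
  exact congrArg Over.Hom.left (h _ j hu)

/-- The section at a value of the variable. -/
noncomputable def atVal (X : Over S) [IsAffine X.left] (r : Γ(X.left, ⊤)) :
    X ⟶ ext X (C : Γ(X.left, ⊤) →+* Polynomial Γ(X.left, ⊤)) :=
  (exists_toExt (X := X) (Y := X) C (𝟙 X) (Polynomial.evalRingHom r) (by ext a; simp)).choose

theorem atVal_extHom (X : Over S) [IsAffine X.left] (r : Γ(X.left, ⊤)) : atVal X r ≫ extHom X C = 𝟙 X :=
  (exists_toExt (X := X) (Y := X) C (𝟙 X) (Polynomial.evalRingHom r) (by ext a; simp)).choose_spec.1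

theorem atVal_fn (X : Over S) [IsAffine X.left] (r : Γ(X.left, ⊤)) (p : Polynomial Γ(X.left, ⊤)) :
    (atVal X r).left.appTop (fn X C p) = p.eval r :=
  (exists_toExt (X := X) (Y := X) C (𝟙 X) (Polynomial.evalRingHom r) (by ext a; simp)).choose_spec.2 p

variable {G G' : Over S} [GrpObj G] [GrpObj G'] {D : Red.SplitRed G} {D' : Red.SplitRed G'} (Q : PMor D D')

theorem ge_tg (e : D.idx) {X : Over S} (t : X ⟶ D.T) (x : Γ(X.left, ⊤)) :
    ∃ x' : Γ(X.left, ⊤), ge Q e x * tg Q t = tg Q t * ge Q e x' := by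
  refine ⟨Red.gmFn (t⁻¹ ≫ chr D (D.P.root e)) * x, ?_⟩
  have h := tg_ge Q e t⁻¹ x
  have ht : tg Q t⁻¹ = (tg Q t)⁻¹ := eq_inv_of_mul_eq_one_left (by rw [← tg_mul, inv_mul_cancel, tg_one])
  rw [ht, inv_mul_eq_iff_eq_mul] at h
  rw [h]
  group

/-- A simple root pair moves past a word of opposite simple pairs near its zero locus. -/
theorem push {c : D.idx} (hc : c ∈ Q.bs.support) : ∀ (n : ℕ) (X : Over S) [IsAffine X.left] (z : Γ(X.left, ⊤))
    (W : List (D.idx × Γ(X.left, ⊤))), W.length = n → (∀ e ∈ W, e.1 ∈ Q.neg.bs.support) →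
    ∃ e₀ : Γ(X.left, ⊤), (∀ (B : Type u) [CommRing B] (ρ : Γ(X.left, ⊤) →+* B), ρ z = 0 → ρ e₀ = 1) ∧
      ∀ (Y : Over S) (f : Y ⟶ X), IsUnit (f.left.appTop e₀) →
        ∃ (W' : List (D.idx × Γ(Y.left, ⊤))) (t : Y ⟶ D.T) (z' : Γ(Y.left, ⊤)),
          (∀ e ∈ W', e.1 ∈ Q.neg.bs.support) ∧
            ge Q c (f.left.appTop z) * wd Q (pullW f W) = wd Q W' * tg Q t * ge Q c z' := by
  intro n
  induction n with
  | zero =>
    intro X _ z W hlen _
    obtain rfl := List.length_eq_zero_iff.1 hlen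
    exact ⟨1, fun B _ ρ _ => map_one ρ, fun Y f _ => ⟨[], 1, f.left.appTop z, by simp, by
      simp [pullW, wd_nil, tg_one]⟩⟩
  | succ n ih =>
    intro X _ z W hlen hW
    match W, hlen with
    | (b, y) :: W, hlen =>
      have hb : b ∈ Q.neg.bs.support := hW (b, y) List.mem_cons_self
      have hW' : ∀ e ∈ W, e.1 ∈ Q.neg.bs.support := fun e he => hW e (List.mem_cons_of_mem _ he)
      have hlen' : W.length = n := by simpa using hlen
      by_cases hbc : b = D.P.reflectionPerm c c
      swap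
      · obtain ⟨e₀, h0, h1⟩ := ih X z W hlen' hW'
        refine ⟨e₀, h0, fun Y f hf => ?_⟩
        obtain ⟨W', t, z', hW'', he⟩ := h1 Y f hf
        refine ⟨(b, f.left.appTop y) :: W', t, z', ?_, ?_⟩
        · intro e he'
          rcases List.mem_cons.1 he' with rfl | h
          · exact hb
          · exact hW'' e h
        · rw [pullW, List.map_cons, wd_cons, ← _root_.mul_assoc, ge_comm Q hc hb hbc, _root_.mul_assoc]
          rw [pullW] at he
          rw [he, wd_cons]
          simp only [_root_.mul_assoc]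
      · subst hbc
        set u : Γ(X.left, ⊤) := 1 + z * y with hu
        let a : Γ(X.left, ⊤) →+* Localization.Away u := algebraMap _ _
        let z₁ := fn X a (a z * IsLocalization.Away.invSelf u)
        obtain ⟨e₁, h0, h1⟩ := ih (ext X a) z₁ (pullW (extHom X a) W) (by simpa [pullW] using hlen') (by
          intro e he
          obtain ⟨e', he', rfl⟩ := List.mem_map.1 he
          exact hW' e' he')
        obtain ⟨e₀, g0, g1⟩ := away_step u e₁
        refine ⟨e₀, fun B _ ρ hz => g0 B ρ (by rw [hu, map_add, map_one, map_mul, hz, zero_mul, add_zero])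
          fun ρ₁ hρ₁ => h0 B (ρ₁.comp (fn X a).symm.toRingHom) ?_, fun Y f hf => ?_⟩
        · simp only [z₁, RingHom.comp_apply, RingEquiv.toRingHom_eq_coe, RingEquiv.coe_toRingHom,
            RingEquiv.symm_apply_apply, map_mul]
          rw [← RingHom.comp_apply ρ₁ a, hρ₁, hz, zero_mul]
        · obtain ⟨d, hd, hde⟩ := g1 Y f hf
          obtain ⟨W', t, z', hW'', he⟩ := h1 Y d hde
          have hfu : d.left.appTop (fn X a (a u)) = f.left.appTop u := by
            rw [← extHom_fn, ← hd]; rfl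
          have hinv : f.left.appTop u * d.left.appTop (fn X a (IsLocalization.Away.invSelf u)) = 1 := by
            rw [← hfu, ← map_mul, ← map_mul, IsLocalization.Away.mul_invSelf, map_one, map_one]
          let v : Γ(Y.left, ⊤)ˣ := ⟨f.left.appTop u, d.left.appTop (fn X a (IsLocalization.Away.invSelf u)),
            hinv, by rw [mul_comm]; exact hinv⟩
          have hv : (v : Γ(Y.left, ⊤)) = 1 + f.left.appTop z * f.left.appTop y := by
            simp only [v, hu, map_add, map_one, map_mul]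
          have hz₁ : d.left.appTop z₁ = f.left.appTop z * (↑v⁻¹ : Γ(Y.left, ⊤)) := by
            simp only [z₁, map_mul]
            rw [← extHom_fn, ← hd]
            rfl
          have hpw : pullW d (pullW (extHom X a) W) = pullW f W := by
            simp only [pullW, List.map_map, ← hd]
            rfl
          rw [hpw, hz₁] at he
          set H := Gm.gmPt v ≫ cochar D (D.P.coroot c).toAddMonoidHom with hH
          obtain ⟨W'', hfst, hswap⟩ := tg_wd Q H W'
          refine ⟨(D.P.reflectionPerm c c, f.left.appTop y * (↑v⁻¹ : Γ(Y.left, ⊤))) :: W'', H * t, z', ?_, ?_⟩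
          · intro e he'
            rcases List.mem_cons.1 he' with rfl | h
            · exact hb
            · have : e.1 ∈ W'.map Prod.fst := hfst ▸ List.mem_map_of_mem h
              obtain ⟨e', he'', hee⟩ := List.mem_map.1 this
              exact hee ▸ hW'' e' he''
          · rw [pullW, List.map_cons, wd_cons, ← _root_.mul_assoc, ge_rule Q hc _ _ v hv, ← hH, _root_.mul_assoc]
            rw [pullW] at he
            rw [he, ← _root_.mul_assoc, ← _root_.mul_assoc, _root_.mul_assoc _ (tg Q H), hswap, wd_cons, tg_mul]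
            simp only [_root_.mul_assoc]

/-- The allowed letters. -/
def Letter (e : D.idx) : Prop := e ∈ Q.bs.support ∨ e ∈ Q.neg.bs.support

/-- Scaling a word by a variable. -/
noncomputable def scaleW (X : Over S) [IsAffine X.left] (L : List (D.idx × Γ(X.left, ⊤))) :
    List (D.idx × Γ((ext X (C : Γ(X.left, ⊤) →+* Polynomial Γ(X.left, ⊤))).left, ⊤)) :=
  L.map fun e => (e.1, fn X C (Polynomial.X * C e.2))

theorem atVal_scaleW (X : Over S) [IsAffine X.left] (r : Γ(X.left, ⊤)) (L : List (D.idx × Γ(X.left, ⊤))) :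
    pullW (atVal X r) (scaleW X L) = L.map fun e => (e.1, r * e.2) := by
  simp only [pullW, scaleW, List.map_map]
  refine List.map_congr_left fun e _ => Prod.ext rfl ?_
  simp only [Function.comp_apply, atVal_fn, Polynomial.eval_mul, Polynomial.eval_X, Polynomial.eval_C]

/-- The triangular form of a word times a simple pair. -/
theorem step_pos {c : D.idx} (hc : c ∈ Q.bs.support) (T : Over S) [IsAffine T.left] (x : Γ(T.left, ⊤))
    (L : List (D.idx × Γ(T.left, ⊤))) (e₁ : Γ(T.left, ⊤)) {B : Type u} [CommRing B] (ρ : Γ(T.left, ⊤) →+* B)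
    (hx : ρ x = 0) (he₁ : ρ e₁ = 1)
    (h1 : ∀ (Y : Over S) (f : Y ⟶ T), IsUnit (f.left.appTop e₁) →
      ∃ (W : List (D.idx × Γ(Y.left, ⊤))) (t : Y ⟶ D.T) (V : List (D.idx × Γ(Y.left, ⊤))),
        (∀ e ∈ W, e.1 ∈ Q.neg.bs.support) ∧ (∀ e ∈ V, e.1 ∈ Q.bs.support) ∧
          wd Q (pullW f L) = wd Q W * tg Q t * wd Q V) :
    ∃ e₀ : Γ(T.left, ⊤), ρ e₀ = 1 ∧ ∀ (Y : Over S) (f : Y ⟶ T), IsUnit (f.left.appTop e₀) →
      ∃ (W : List (D.idx × Γ(Y.left, ⊤))) (t : Y ⟶ D.T) (V : List (D.idx × Γ(Y.left, ⊤))),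
        (∀ e ∈ W, e.1 ∈ Q.neg.bs.support) ∧ (∀ e ∈ V, e.1 ∈ Q.bs.support) ∧
          wd Q (pullW f ((c, x) :: L)) = wd Q W * tg Q t * wd Q V := by
  let α : Γ(T.left, ⊤) →+* Localization.Away e₁ := algebraMap _ _
  have hu : IsUnit ((extHom T α).left.appTop e₁) := by
    rw [extHom_fn]
    exact (IsLocalization.map_units (Localization.Away e₁)
      (⟨e₁, Submonoid.mem_powers e₁⟩ : Submonoid.powers e₁)).map _
  obtain ⟨W, t, V, hW, hV, he⟩ := h1 _ (extHom T α) hu
  obtain ⟨e₂, p0, p1⟩ := push Q hc W.length (ext T α) ((extHom T α).left.appTop x) W rfl hW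
  obtain ⟨e₀, g0, g1⟩ := away_step e₁ e₂
  refine ⟨e₀, g0 _ ρ he₁ fun ρ₁ hρ₁ => p0 _ (ρ₁.comp (fn T α).symm.toRingHom) ?_, fun Y f hf => ?_⟩
  · rw [extHom_fn]
    simp only [RingHom.comp_apply, RingEquiv.toRingHom_eq_coe, RingEquiv.coe_toRingHom,
      RingEquiv.symm_apply_apply]
    rw [← RingHom.comp_apply ρ₁ α, hρ₁, hx]
  · obtain ⟨d, hd, hde⟩ := g1 Y f hf
    obtain ⟨W', t', z', hW', hp⟩ := p1 Y d hde
    have hx' : d.left.appTop ((extHom T α).left.appTop x) = f.left.appTop x := by rw [← hd]; rfl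
    rw [hx'] at hp
    have he' := congrArg (pull d) he
    rw [pull_wd, map_mul, map_mul, pull_wd, pull_tg, pull_wd] at he'
    have hpw : pullW d (pullW (extHom T α) L) = pullW f L := by
      simp only [pullW, List.map_map, ← hd]
      rfl
    rw [hpw] at he'
    obtain ⟨z'', hz''⟩ := ge_tg Q c (d ≫ t) z'
    refine ⟨W', t' * (d ≫ t), (c, z'') :: pullW d V, hW', ?_, ?_⟩
    · intro e he''
      rcases List.mem_cons.1 he'' with rfl | h
      · exact hc
      · obtain ⟨e', he₁', rfl⟩ := List.mem_map.1 h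
        exact hV e' he₁'
    · change wd Q ((c, f.left.appTop x) :: pullW f L) = _
      rw [wd_cons, he', ← _root_.mul_assoc, ← _root_.mul_assoc, hp, _root_.mul_assoc _ (ge Q c z'), hz'',
        wd_cons, tg_mul]
      simp only [_root_.mul_assoc]

/-- A scaled word is in triangular form near zero. -/
theorem near_zero (X : Over S) [IsAffine X.left] : ∀ L : List (D.idx × Γ(X.left, ⊤)), (∀ e ∈ L, Letter Q e.1) →
    ∃ e₀ : Γ((ext X (C : Γ(X.left, ⊤) →+* Polynomial Γ(X.left, ⊤))).left, ⊤),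
      ((fn X C).symm e₀).eval 0 = 1 ∧
      ∀ (Y : Over S) (f : Y ⟶ ext X (C : Γ(X.left, ⊤) →+* Polynomial Γ(X.left, ⊤))), IsUnit (f.left.appTop e₀) →
        ∃ (W : List (D.idx × Γ(Y.left, ⊤))) (t : Y ⟶ D.T) (V : List (D.idx × Γ(Y.left, ⊤))),
          (∀ e ∈ W, e.1 ∈ Q.neg.bs.support) ∧ (∀ e ∈ V, e.1 ∈ Q.bs.support) ∧
            wd Q (pullW f (scaleW X L)) = wd Q W * tg Q t * wd Q V := by
  intro L
  induction L with
  | nil =>
    intro _
    exact ⟨1, by rw [map_one, Polynomial.eval_one], fun Y f _ => ⟨[], 1, [], by simp, by simp, by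
      simp [scaleW, pullW, wd_nil, tg_one]⟩⟩
  | cons a L ih =>
    intro hL
    obtain ⟨e₁, h0, h1⟩ := ih fun e he => hL e (List.mem_cons_of_mem _ he)
    rcases hL a List.mem_cons_self with hpos | hneg
    · exact step_pos Q hpos (ext X C) (fn X C (Polynomial.X * C a.2)) (scaleW X L) e₁
        ((Polynomial.evalRingHom 0).comp (fn X C).symm.toRingHom) (by simp) h0 h1
    · refine ⟨e₁, h0, fun Y f hf => ?_⟩
      obtain ⟨W, t, V, hW, hV, he⟩ := h1 Y f hf
      refine ⟨(a.1, f.left.appTop (fn X C (Polynomial.X * C a.2))) :: W, t, V, ?_, hV, ?_⟩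
      · intro e he'
        rcases List.mem_cons.1 he' with rfl | h
        · exact hneg
        · exact hW e h
      · change wd Q ((a.1, _) :: pullW f (scaleW X L)) = _
        rw [wd_cons, he, wd_cons]
        simp only [_root_.mul_assoc]

end Groth.Agent.H82.R2.Iso
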